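import Mathlib

/-!
# The Frobenius is a topological generator of the absolute Galois group of a finite field
-/

set_option autoImplicit false
universe u

namespace Groth.Agent.Lib.Helper24.Zhat

variable {k : Type u} [Field k] [Finite k] {K : Type u} [Field K] [Algebra k K]
  (π : K ≃ₐ[k] K) (hπ : ∀ x : K, π x = x ^ Nat.card k)

include hπ in
theorem pow_apply (n : ℕ) (x : K) : (π ^ n) x = x ^ (Nat.card k ^ n) := by
  induction n generalizing x with
  | zero => simp
  | succ n ih =>
    rw [pow_succ, AlgEquiv.mul_apply, hπ, ih, ← pow_mul, pow_succ, mul_comm]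

variable [Algebra.IsAlgebraic k K]

include hπ in
/-- every automorphism agrees with a power of the Frobenius on a given finite subfield -/
theorem exists_pow_agree (E : IntermediateField k K) [FiniteDimensional k E] (σ : K ≃ₐ[k] K) :
    ∃ n : ℕ, ∀ x ∈ E, σ x = (π ^ n) x := by
  haveI : Fintype k := Fintype.ofFinite k
  haveI : Finite E := Module.finite_of_finite k
  haveI : IsGalois k E := inferInstance
  obtain ⟨n, hn⟩ := (FiniteField.bijective_frobeniusAlgEquivOfAlgebraic_pow k E).2 (σ.restrictNormal E)
  refine ⟨n.1, fun x hx => ?_⟩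
  have h1 := AlgEquiv.restrictNormal_commutes σ E ⟨x, hx⟩
  rw [← hn] at h1
  have h2 : (FiniteField.frobeniusAlgEquivOfAlgebraic k E ^ n.1) ⟨x, hx⟩ =
      (⟨x, hx⟩ : E) ^ (Fintype.card k ^ n.1) := by
    rw [AlgEquiv.coe_pow, FiniteField.coe_frobeniusAlgEquivOfAlgebraic_iterate]
  rw [h2] at h1
  rw [pow_apply π hπ, Nat.card_eq_fintype_card]
  exact h1.symm

include hπ in
/-- two powers of the Frobenius agreeing on a subfield of degree `m` have exponents congruent
modulo `m` -/
theorem modEq_of_pow_agree (E : IntermediateField k K) [FiniteDimensional k E] {n n' : ℕ}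
    (h : ∀ x ∈ E, (π ^ n) x = (π ^ n') x) : n ≡ n' [MOD Module.finrank k E] := by
  haveI : Fintype k := Fintype.ofFinite k
  haveI : Finite E := Module.finite_of_finite k
  rw [← FiniteField.orderOf_frobeniusAlgEquivOfAlgebraic k E, ← pow_eq_pow_iff_modEq]
  ext x
  rw [AlgEquiv.coe_pow, AlgEquiv.coe_pow, FiniteField.coe_frobeniusAlgEquivOfAlgebraic_iterate,
    FiniteField.coe_frobeniusAlgEquivOfAlgebraic_iterate]
  have := h x.1 x.2
  rw [pow_apply π hπ, pow_apply π hπ, Nat.card_eq_fintype_card] at this
  exact_mod_cast this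

include hπ in
/-- a power of the Frobenius by a multiple of the degree fixes a finite subfield -/
theorem pow_finrank_apply (E : IntermediateField k K) [FiniteDimensional k E] (j : ℕ) (x : K)
    (hx : x ∈ E) : (π ^ (Module.finrank k E * j)) x = x := by
  haveI : Fintype k := Fintype.ofFinite k
  haveI : Finite E := Module.finite_of_finite k
  haveI : Fintype E := Fintype.ofFinite E
  rw [pow_apply π hπ, pow_mul, Nat.card_eq_fintype_card, ← Module.card_eq_pow_finrank (K := k) (V := E)]
  have : ∀ j : ℕ, (⟨x, hx⟩ : E) ^ (Fintype.card E ^ j) = ⟨x, hx⟩ := by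
    intro j
    induction j with
    | zero => simp
    | succ j ih => rw [pow_succ, pow_mul, ih, FiniteField.pow_card]
  exact congrArg Subtype.val (this j)

include hπ in
/-- the powers of the Frobenius are dense in the Galois group -/
theorem dense_powers : Dense (Set.range fun n : ℕ => π ^ n) := by
  rw [dense_iff_inter_open]
  rintro U hU ⟨σ, hσ⟩
  have h1 : (fun τ => σ * τ) ⁻¹' U ∈ nhds (1 : K ≃ₐ[k] K) := by
    apply (continuous_const_mul σ).continuousAt
    show U ∈ nhds (σ * 1)
    rw [mul_one]
    exact hU.mem_nhds hσ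
  rw [krullTopology_mem_nhds_one_iff] at h1
  obtain ⟨E, hE, hsub⟩ := h1
  obtain ⟨n, hn⟩ := exists_pow_agree π hπ E σ
  refine ⟨π ^ n, ?_, n, rfl⟩
  have : σ⁻¹ * π ^ n ∈ E.fixingSubgroup := by
    rw [IntermediateField.mem_fixingSubgroup_iff]
    intro x hx
    rw [AlgEquiv.mul_apply, ← hn x hx]
    exact σ.symm_apply_apply x
  have := hsub this
  simpa using this

end Groth.Agent.Lib.Helper24.Zhat

namespace Groth.Agent.Lib.Helper24.Zhat

variable {k : Type u} [Field k] [Finite k] {K : Type u} [Field K] [Algebra k K]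

/-- an algebraically closed extension of a finite field contains subfields of every degree -/
theorem exists_intermediateField_finrank [IsAlgClosed K] (m : ℕ) (hm : 0 < m) :
    ∃ E : IntermediateField k K, FiniteDimensional k E ∧ Module.finrank k E = m := by
  haveI : Fact (ringChar k).Prime := ⟨CharP.char_is_prime k (ringChar k)⟩
  haveI : NeZero m := ⟨hm.ne'⟩
  let L := FiniteField.Extension k (ringChar k) m
  haveI : Algebra.IsAlgebraic k L := Algebra.IsAlgebraic.of_finite k L
  let ι : L →ₐ[k] K := IsAlgClosed.lift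
  let e : L ≃ₐ[k] ι.fieldRange := AlgEquiv.ofInjectiveField ι
  have hfin : Module.finrank k ι.fieldRange = m := by
    rw [← e.toLinearEquiv.finrank_eq]
    exact FiniteField.finrank_extension k (ringChar k) m
  refine ⟨ι.fieldRange, ?_, hfin⟩
  exact Module.finite_of_finrank_pos (by rw [hfin]; exact hm)

end Groth.Agent.Lib.Helper24.Zhat
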