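import Mathlib

/-!
# Twisted powers `a · π(a) ⋯ π^{n-1}(a)` and their periodicity
-/

set_option autoImplicit false

namespace Groth.Agent.Lib.Helper24.Zhat

variable {Γ : Type*} [Group Γ] {A : Type*} [Group A] [MulDistribMulAction Γ A] (π : Γ) (a : A)

/-- the twisted powers `a · π(a) ⋯ π^{n-1}(a)` -/
def N : ℕ → A
  | 0 => 1
  | n + 1 => N n * π ^ n • a

@[simp] theorem N_zero : N π a 0 = 1 := rfl
theorem N_succ (n : ℕ) : N π a (n + 1) = N π a n * π ^ n • a := rfl

theorem N_one : N π a 1 = a := by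
  rw [N_succ, N_zero, pow_zero, one_smul, one_mul]

theorem N_add (n j : ℕ) : N π a (n + j) = N π a n * π ^ n • N π a j := by
  induction j with
  | zero => rw [add_zero, N_zero, smul_one, mul_one]
  | succ j ih =>
    rw [← add_assoc, N_succ, ih, N_succ, smul_mul', ← mul_smul, ← pow_add, mul_assoc]

variable (H : Subgroup A) (ha : a ∈ H) (hH : ∀ (σ : Γ) (x : A), x ∈ H → σ • x ∈ H)

include ha hH in
theorem N_mem (n : ℕ) : N π a n ∈ H := by
  induction n with
  | zero => exact H.one_mem
  | succ n ih => exact H.mul_mem ih (hH _ _ ha)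

include ha hH in
theorem N_mul (d : ℕ) (hd : ∀ x ∈ H, π ^ d • x = x) (j : ℕ) :
    N π a (d * j) = N π a d ^ j := by
  have hd' : ∀ (j : ℕ) (x : A), x ∈ H → π ^ (d * j) • x = x := by
    intro j
    induction j with
    | zero => intro x _; rw [mul_zero, pow_zero, one_smul]
    | succ j ih =>
      intro x hx
      rw [mul_add, mul_one, pow_add, mul_smul, hd x hx, ih x hx]
  induction j with
  | zero => rw [mul_zero, N_zero, pow_zero]
  | succ j ih =>
    rw [mul_add, mul_one, N_add, ih, hd' j _ (N_mem π a H ha hH d), pow_succ]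

include ha hH in
/-- if `H` is finite and `π ^ d` acts trivially on it, the twisted powers are periodic with a period
which is a positive multiple of `d` -/
theorem exists_period (hfin : (H : Set A).Finite) (d : ℕ) (hd0 : 0 < d)
    (hd : ∀ x ∈ H, π ^ d • x = x) :
    ∃ P : ℕ, 0 < P ∧ d ∣ P ∧ ∀ n, N π a (n + P) = N π a n := by
  haveI : Finite H := hfin
  have hfo : IsOfFinOrder (N π a d) := by
    have : IsOfFinOrder (⟨N π a d, N_mem π a H ha hH d⟩ : H) := isOfFinOrder_of_finite _
    exact (Submonoid.isOfFinOrder_coe (H := H.toSubmonoid)).2 this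
  refine ⟨d * orderOf (N π a d), Nat.mul_pos hd0 hfo.orderOf_pos, dvd_mul_right _ _, fun n => ?_⟩
  rw [N_add, N_mul π a H ha hH d hd, pow_orderOf_eq_one, smul_one, mul_one]

theorem N_eq_of_modEq {P : ℕ} (hP : ∀ n, N π a (n + P) = N π a n) {n n' : ℕ}
    (h : n ≡ n' [MOD P]) : N π a n = N π a n' := by
  have hper : Function.Periodic (N π a) P := hP
  rw [← hper.map_mod_nat n, ← hper.map_mod_nat n', h]

end Groth.Agent.Lib.Helper24.Zhat
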