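import Mathlib
import Groth.Prelude.Def_GSzH1
import Groth.Agent.Lib.Helper24.Zhat.Galois
import Groth.Agent.Lib.Helper24.Zhat.Norm

/-!
# Locally constant cocycles of the absolute Galois group of a finite field
-/

set_option autoImplicit false
universe u v

namespace Groth.Agent.Lib.Helper24.Zhat

open GpH1

section TopGroup

variable {Γ : Type*} [Group Γ] [TopologicalSpace Γ] [IsTopologicalGroup Γ] {Y : Type*}

/-- a function which is locally right-invariant under open neighbourhoods of `1` is locally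
constant -/
theorem isLocallyConstant_of_forall_nhds (f : Γ → Y)
    (h : ∀ σ : Γ, ∃ V : Set Γ, IsOpen V ∧ (1 : Γ) ∈ V ∧ ∀ τ ∈ V, f (σ * τ) = f σ) :
    IsLocallyConstant f := by
  rw [IsLocallyConstant.iff_exists_open]
  intro σ
  obtain ⟨V, hV, h1, hf⟩ := h σ
  refine ⟨(fun τ => σ⁻¹ * τ) ⁻¹' V, hV.preimage (continuous_const_mul σ⁻¹), ?_, ?_⟩
  · show σ⁻¹ * σ ∈ V
    rw [inv_mul_cancel]; exact h1
  · intro τ hτ
    have := hf _ hτ
    rwa [mul_inv_cancel_left] at this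

variable {A : Type*} [Group A] [MulDistribMulAction Γ A]

theorem isLocallyConstant_smul (hcont : ∀ a : A, IsOpen {σ : Γ | σ • a = a}) (g : A) :
    IsLocallyConstant (fun σ : Γ => σ • g) := by
  apply isLocallyConstant_of_forall_nhds
  intro σ
  refine ⟨_, hcont g, one_smul _ _, fun τ hτ => ?_⟩
  rw [mul_smul, hτ]

theorem cocycle_one (z : OneCocycle Γ A) : z 1 = 1 := by
  have := z.2 1 1
  rw [one_smul, mul_one] at this
  exact (mul_eq_left.1 this.symm)

theorem cocycle_pow (z : OneCocycle Γ A) (π : Γ) (n : ℕ) : z (π ^ n) = N π (z π) n := by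
  induction n with
  | zero => rw [pow_zero, cocycle_one, N_zero]
  | succ n ih => rw [pow_succ, z.2, ih, N_succ]

/-- a locally constant cocycle is determined by its value on a topological generator -/
theorem cocycle_ext_of_dense (π : Γ) (hd : Dense (Set.range fun n : ℕ => π ^ n))
    (z z' : OneCocycleLC Γ A) (h : z.1 π = z'.1 π) : z = z' := by
  apply Subtype.ext
  apply OneCocycle.ext
  intro σ
  have hcl : IsClosed {σ : Γ | z.1 σ = z'.1 σ} := by
    have h1 : IsLocallyConstant (fun σ : Γ => (z.1 σ, z'.1 σ)) := z.2.prodMk z'.2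
    have : {σ : Γ | z.1 σ = z'.1 σ} = (fun σ : Γ => (z.1 σ, z'.1 σ)) ⁻¹' {p | p.1 = p.2} := rfl
    rw [this]
    exact ⟨by rw [← Set.preimage_compl]; exact h1 _⟩
  have hsub : (Set.range fun n : ℕ => π ^ n) ⊆ {σ : Γ | z.1 σ = z'.1 σ} := by
    rintro _ ⟨n, rfl⟩
    show z.1 (π ^ n) = z'.1 (π ^ n)
    rw [cocycle_pow, cocycle_pow, h]
  have := closure_minimal hsub hcl
  rw [hd.closure_eq] at this
  exact this (Set.mem_univ σ)

/-- twisting a cocycle by `g` -/
def twist (z : OneCocycle Γ A) (g : A) : OneCocycle Γ A :=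
  ⟨fun σ => g * z σ * (σ • g)⁻¹, by
    intro σ τ
    show g * z (σ * τ) * ((σ * τ) • g)⁻¹ = g * z σ * (σ • g)⁻¹ * σ • (g * z τ * (τ • g)⁻¹)
    rw [z.2, smul_mul', smul_mul', smul_inv', mul_smul]
    group⟩

theorem isLocallyConstant_twist (hcont : ∀ a : A, IsOpen {σ : Γ | σ • a = a})
    (z : OneCocycleLC Γ A) (g : A) : IsLocallyConstant ((twist z.1 g : OneCocycle Γ A) : Γ → A) := by
  have h1 : IsLocallyConstant (fun σ : Γ => (z.1 σ, σ • g)) :=
    z.2.prodMk (isLocallyConstant_smul hcont g)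
  exact h1.comp (fun p : A × A => g * p.1 * p.2⁻¹)

theorem cl_eq_iff_of_dense (π : Γ) (hd : Dense (Set.range fun n : ℕ => π ^ n))
    (hcont : ∀ a : A, IsOpen {σ : Γ | σ • a = a}) (z z' : OneCocycleLC Γ A) :
    z.cl = z'.cl ↔ ∃ g : A, z'.1 π = g * z.1 π * (π • g)⁻¹ := by
  rw [OneCocycleLC.cl_eq_cl_iff]
  constructor
  · rintro ⟨c, hc⟩
    refine ⟨c, ?_⟩
    rw [hc π]
    group
  · rintro ⟨g, hg⟩
    have : (⟨twist z.1 g, isLocallyConstant_twist hcont z g⟩ : OneCocycleLC Γ A) = z' :=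
      cocycle_ext_of_dense π hd _ _ hg.symm
    refine ⟨g, fun σ => ?_⟩
    rw [← this]
    show z.1 σ = g⁻¹ * (g * z.1 σ * (σ • g)⁻¹) * σ • g
    group

end TopGroup

end Groth.Agent.Lib.Helper24.Zhat

namespace Groth.Agent.Lib.Helper24.Zhat

open GpH1

variable {k : Type u} [Field k] [Finite k] {K : Type u} [Field K] [Algebra k K]
  [Algebra.IsAlgebraic k K] [IsAlgClosed K]
  (π : K ≃ₐ[k] K) (hπ : ∀ x : K, π x = x ^ Nat.card k)
  {A : Type v} [Group A] [MulDistribMulAction (K ≃ₐ[k] K) A]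
  (hcont : ∀ a : A, IsOpen {σ : K ≃ₐ[k] K | σ • a = a})

include hπ hcont in
/-- every element is the Frobenius value of a locally constant cocycle -/
theorem exists_cocycle (a : A) (H : Subgroup A) (hHfin : (H : Set A).Finite) (haH : a ∈ H)
    (hHst : ∀ (σ : K ≃ₐ[k] K) (x : A), x ∈ H → σ • x ∈ H) :
    ∃ z : OneCocycleLC (K ≃ₐ[k] K) A, z.1 π = a := by
  -- a finite subfield whose fixing subgroup acts trivially on `H`
  have hUopen : IsOpen (⋂ x ∈ (H : Set A), {σ : K ≃ₐ[k] K | σ • x = x}) :=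
    hHfin.isOpen_biInter fun x _ => hcont x
  have hU1 : (⋂ x ∈ (H : Set A), {σ : K ≃ₐ[k] K | σ • x = x}) ∈ nhds (1 : K ≃ₐ[k] K) :=
    hUopen.mem_nhds (by simp)
  rw [krullTopology_mem_nhds_one_iff] at hU1
  obtain ⟨E₀, hE₀, hE₀U⟩ := hU1
  have htriv : ∀ τ : K ≃ₐ[k] K, (∀ x ∈ E₀, τ x = x) → ∀ y ∈ H, τ • y = y := by
    intro τ hτ y hy
    have : τ ∈ (E₀.fixingSubgroup : Set (K ≃ₐ[k] K)) :=
      (IntermediateField.mem_fixingSubgroup_iff E₀ τ).2 hτ
    have := hE₀U this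
    simp only [Set.mem_iInter, Set.mem_setOf_eq] at this
    exact this y hy
  have hd0 : 0 < Module.finrank k E₀ := Module.finrank_pos
  have hd : ∀ y ∈ H, π ^ Module.finrank k E₀ • y = y := by
    refine htriv _ fun x hx => ?_
    have := pow_finrank_apply π hπ E₀ 1 x hx
    rwa [mul_one] at this
  obtain ⟨P, hP0, -, hper⟩ := exists_period π a H haH hHst hHfin _ hd0 hd
  obtain ⟨E₁, hE₁, hE₁P⟩ := exists_intermediateField_finrank (k := k) (K := K) P hP0
  -- the compositum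
  let E : IntermediateField k K := E₀ ⊔ E₁
  haveI : FiniteDimensional k E := IntermediateField.finiteDimensional_sup E₀ E₁
  have hE₀E : E₀ ≤ E := le_sup_left
  have hE₁E : E₁ ≤ E := le_sup_right
  have hPm : P ∣ Module.finrank k E := by
    rw [← hE₁P]
    exact IntermediateField.finrank_dvd_of_le_right hE₁E
  have hperm : ∀ n n' : ℕ, n ≡ n' [MOD Module.finrank k E] → N π a n = N π a n' :=
    fun n n' h => N_eq_of_modEq π a hper (h.of_dvd hPm)
  have hex : ∀ σ : K ≃ₐ[k] K, ∃ n : ℕ, ∀ x ∈ E, σ x = (π ^ n) x := exists_pow_agree π hπ E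
  choose deg hdeg using hex
  have key1 : ∀ (σ : K ≃ₐ[k] K) (n : ℕ), (∀ x ∈ E, σ x = (π ^ n) x) →
      N π a (deg σ) = N π a n := by
    intro σ n hn
    apply hperm
    apply modEq_of_pow_agree π hπ E
    intro x hx
    rw [← hdeg σ x hx, hn x hx]
  have key2 : ∀ (σ : K ≃ₐ[k] K) (n : ℕ), (∀ x ∈ E, σ x = (π ^ n) x) →
      ∀ y ∈ H, σ • y = π ^ n • y := by
    intro σ n hn y hy
    have := htriv ((π ^ n)⁻¹ * σ) (fun x hx => by
      rw [AlgEquiv.mul_apply, hn x (hE₀E hx)]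
      exact (π ^ n).symm_apply_apply x) y hy
    rw [mul_smul, inv_smul_eq_iff] at this
    exact this
  have hstab : ∀ (n : ℕ) (x : K), x ∈ E → (π ^ n) x ∈ E := by
    intro n x hx
    rw [pow_apply π hπ]
    exact pow_mem hx _
  have key3 : ∀ (σ τ : K ≃ₐ[k] K) (n n' : ℕ), (∀ x ∈ E, σ x = (π ^ n) x) →
      (∀ x ∈ E, τ x = (π ^ n') x) → ∀ x ∈ E, (σ * τ) x = (π ^ (n + n')) x := by
    intro σ τ n n' hn hn' x hx
    rw [AlgEquiv.mul_apply, hn' x hx, hn _ (hstab n' x hx), pow_add, AlgEquiv.mul_apply]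
  -- the cocycle
  let z : OneCocycle (K ≃ₐ[k] K) A := ⟨fun σ => N π a (deg σ), by
    intro σ τ
    show N π a (deg (σ * τ)) = N π a (deg σ) * σ • N π a (deg τ)
    rw [key1 (σ * τ) (deg σ + deg τ) (key3 σ τ _ _ (hdeg σ) (hdeg τ)), N_add,
      key2 σ (deg σ) (hdeg σ) _ (N_mem π a H haH hHst _)]⟩
  have hz : IsLocallyConstant (z : (K ≃ₐ[k] K) → A) := by
    apply isLocallyConstant_of_forall_nhds
    intro σ
    refine ⟨E.fixingSubgroup, E.fixingSubgroup_isOpen, E.fixingSubgroup.one_mem, fun τ hτ => ?_⟩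
    show N π a (deg (σ * τ)) = N π a (deg σ)
    apply key1
    intro x hx
    rw [AlgEquiv.mul_apply, (IntermediateField.mem_fixingSubgroup_iff E τ).1 hτ x hx, hdeg σ x hx]
  refine ⟨⟨z, hz⟩, ?_⟩
  show N π a (deg π) = a
  rw [key1 π 1 (fun x _ => by rw [pow_one]), N_one]

end Groth.Agent.Lib.Helper24.Zhat
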